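/-
Sub-presentations used for the presented Fischer group Fi₂₄: on the generators `k, a, b, c, d, e, f, h, i`
(a diagram of shape Y₄₂₂) with the two relators `(k w)^3` and `w i w⁻¹ i`, where `w = (a b c d e f h)^9`
(both hold in Fi₂₄ because there `w = l`), and on `k, a, b, c, d, e, f, h` (type E₈) with the relator `(k w)^3`.
They are used to derive the spider relation `(d c b d e f d h i)^10 = 1` in Fi₂₄.
-/
import Cfsg.Prelude.Def_Spor_Fi24
import Cfsg.Agent.Lib.Helper28.Fi23Ord.Sub

set_option autoImplicit false

namespace Cfsg.Agent.Lib.Helper28.Fi24Sub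

namespace R9

/-- The generators k, a, b, c, d, e, f, h, i. -/
inductive Gen
  | k
  | a
  | b
  | c
  | d
  | e
  | f
  | h
  | i
  deriving DecidableEq

/-- the generator k as a word -/ abbrev k : FreeGroup Gen := FreeGroup.of Gen.k
/-- the generator a as a word -/ abbrev a : FreeGroup Gen := FreeGroup.of Gen.a
/-- the generator b as a word -/ abbrev b : FreeGroup Gen := FreeGroup.of Gen.b
/-- the generator c as a word -/ abbrev c : FreeGroup Gen := FreeGroup.of Gen.c
/-- the generator d as a word -/ abbrev d : FreeGroup Gen := FreeGroup.of Gen.d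
/-- the generator e as a word -/ abbrev e : FreeGroup Gen := FreeGroup.of Gen.e
/-- the generator f as a word -/ abbrev f : FreeGroup Gen := FreeGroup.of Gen.f
/-- the generator h as a word -/ abbrev h : FreeGroup Gen := FreeGroup.of Gen.h
/-- the generator i as a word -/ abbrev i : FreeGroup Gen := FreeGroup.of Gen.i

/-- The Coxeter graph restricted to these generators. -/
def edges : List (Gen × ℕ × Gen) :=
  [(.k, 3, .a), (.a, 3, .b), (.b, 3, .c), (.c, 3, .d), (.d, 3, .e), (.d, 3, .h), (.e, 3, .f), (.h, 3, .i)]

/-- The further relators: `(k w)^3` and `w i w⁻¹ i` with `w = (a b c d e f h)^9`. -/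
def extra : List (FreeGroup Gen) := [(k * ((a * b * c * d * e * f * h) ^ 9)) ^ 3,
  ((a * b * c * d * e * f * h) ^ 9) * i * (((a * b * c * d * e * f * h) ^ 9)⁻¹) * i]

/-- the inclusion of the generators -/
def incl : Gen → Cfsg.Spor.Fi24.Gen
  | .k => .k
  | .a => .a
  | .b => .b
  | .c => .c
  | .d => .d
  | .e => .e
  | .f => .f
  | .h => .h
  | .i => .i

end R9

namespace R8

/-- The generators k, a, b, c, d, e, f, h. -/
inductive Gen
  | k
  | a
  | b
  | c
  | d
  | e
  | f
  | h
  deriving DecidableEq

/-- the generator k as a word -/ abbrev k : FreeGroup Gen := FreeGroup.of Gen.k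
/-- the generator a as a word -/ abbrev a : FreeGroup Gen := FreeGroup.of Gen.a
/-- the generator b as a word -/ abbrev b : FreeGroup Gen := FreeGroup.of Gen.b
/-- the generator c as a word -/ abbrev c : FreeGroup Gen := FreeGroup.of Gen.c
/-- the generator d as a word -/ abbrev d : FreeGroup Gen := FreeGroup.of Gen.d
/-- the generator e as a word -/ abbrev e : FreeGroup Gen := FreeGroup.of Gen.e
/-- the generator f as a word -/ abbrev f : FreeGroup Gen := FreeGroup.of Gen.f
/-- the generator h as a word -/ abbrev h : FreeGroup Gen := FreeGroup.of Gen.h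

/-- The Coxeter graph restricted to these generators. -/
def edges : List (Gen × ℕ × Gen) :=
  [(.k, 3, .a), (.a, 3, .b), (.b, 3, .c), (.c, 3, .d), (.d, 3, .e), (.d, 3, .h), (.e, 3, .f)]

/-- The further relator `(k w)^3` with `w = (a b c d e f h)^9`. -/
def extra : List (FreeGroup Gen) := [(k * ((a * b * c * d * e * f * h) ^ 9)) ^ 3]

/-- the inclusion of the generators -/
def incl : Gen → R9.Gen
  | .k => .k
  | .a => .a
  | .b => .b
  | .c => .c
  | .d => .d
  | .e => .e
  | .f => .f
  | .h => .h

end R8

/-- the `E₇` generators `b, c, d, e, f, g, h` of `Fi23Sub.Q7` sent to `f, e, d, c, b, a, h` (a diagram isomorphism) -/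
def inclE7 : Cfsg.Agent.Lib.Helper28.Fi23Sub.Q7.Gen → R8.Gen
  | .b => .f
  | .c => .e
  | .d => .d
  | .e => .c
  | .f => .b
  | .g => .a
  | .h => .h

end Cfsg.Agent.Lib.Helper28.Fi24Sub
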