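/-
Basic relations in the presented Fischer group Fi₂₄.
-/
import Cfsg.Prelude.Def_Spor_Fi24
import Cfsg.Agent.Lib.Helper28.OrdLemmas

set_option autoImplicit false

namespace Cfsg.Agent.Lib.Helper28.Fi24Ord

open Cfsg.Agent.Lib.Helper28.TC
open Cfsg.Agent.Lib.Helper28.Ord
open Cfsg.Spor

/-- A homomorphism between presented groups from a map of generators under which each relator
word goes to a relator word or to a word with trivial value. -/
theorem exists_hom_of_words2 {α α' : Type} [DecidableEq α] [DecidableEq α'] (ι : α' → α)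
    (rels : Set (FreeGroup α)) (rels' : Set (FreeGroup α'))
    (hinv : ∀ x, pval rels x * pval rels x = 1)
    (L' : List (WE α')) (hL' : ∀ r ∈ rels', ∃ e ∈ L', r = e.evalF)
    (L : List (WE α)) (hL : ∀ e ∈ L, e.evalF ∈ rels)
    (hmap : ∀ e' ∈ L', e'.evalW.map ι ∈ L.map WE.evalW ∨
      wval (pval rels) (e'.evalW.map ι) = 1) :
    ∃ ψ : PresentedGroup rels' →* PresentedGroup rels,
      ∀ w : FreeGroup α', ψ (PresentedGroup.mk rels' w) =
        PresentedGroup.mk rels (FreeGroup.map ι w) := by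
  have hf : ∀ x : α', pval rels (ι x) * pval rels (ι x) = 1 := fun x => hinv (ι x)
  have h : ∀ r ∈ rels', FreeGroup.lift (fun x => pval rels (ι x)) r = 1 := by
    intro r hr
    obtain ⟨e', he', rfl⟩ := hL' r hr
    rw [WE.lift_evalF _ hf, wval_comp]
    rcases hmap e' he' with h1 | h1
    · obtain ⟨e, he, hew⟩ := List.mem_map.1 h1
      rw [← hew]
      exact wval_pval_eq_one rels hinv e (hL e he)
    · exact h1
  refine ⟨PresentedGroup.toGroup h, ?_⟩
  intro w
  have : (PresentedGroup.toGroup h).comp (PresentedGroup.mk rels') =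
      (PresentedGroup.mk rels).comp (FreeGroup.map ι) := by
    ext x
    show PresentedGroup.toGroup h (PresentedGroup.of x) = _
    rw [PresentedGroup.toGroup.of]
    rfl
  exact DFunLike.congr_fun this w

/-- the relators of the presented Fi₂₄ -/
abbrev rels24 : Set (FreeGroup Fi24.Gen) := coxRelators Fi24.edges ∪ {r | r ∈ Fi24.extra}

/-- the images of the generators in Fi₂₄ -/
noncomputable abbrev g24 (x : Fi24.Gen) : PresentedGroup rels24 := pval rels24 x

theorem cox24 (x y : Fi24.Gen) : (g24 x * g24 y) ^ coxLabel Fi24.edges x y = 1 := by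
  have hx : x ∈ coxNodes Fi24.edges := by cases x <;> decide
  have hy : y ∈ coxNodes Fi24.edges := by cases y <;> decide
  have h : (FreeGroup.of x * FreeGroup.of y) ^ coxLabel Fi24.edges x y ∈ rels24 :=
    Or.inl ⟨x, hx, y, hy, rfl⟩
  have h2 := PresentedGroup.one_of_mem h
  rw [map_pow, map_mul] at h2
  exact h2

theorem hinv24 (x : Fi24.Gen) : pval rels24 x * pval rels24 x = 1 := by
  have h := cox24 x x
  have h1 : coxLabel Fi24.edges x x = 1 := by simp [coxLabel]
  rw [h1, pow_one] at h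
  exact h

theorem inv24 (x : Fi24.Gen) : (g24 x)⁻¹ = g24 x := inv_eq_of_mul_eq_one_left (hinv24 x)

/-- in Fi₂₄ the generator `l` is the ninth power of the Coxeter element of `E₇` -/
theorem l_eq24 : g24 Fi24.Gen.l =
    (g24 Fi24.Gen.a * g24 Fi24.Gen.b * g24 Fi24.Gen.c * g24 Fi24.Gen.d * g24 Fi24.Gen.e *
      g24 Fi24.Gen.f * g24 Fi24.Gen.h) ^ 9 := by
  have h : PresentedGroup.mk rels24
      (Fi24.l * (((Fi24.a * Fi24.b * Fi24.c * Fi24.d * Fi24.e * Fi24.f * Fi24.h) ^ 9)⁻¹)) = 1 :=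
    PresentedGroup.one_of_mem (Or.inr (by simp [Fi24.extra]))
  rw [map_mul, map_inv, mul_inv_eq_one, map_pow, map_mul, map_mul, map_mul, map_mul, map_mul,
    map_mul] at h
  exact h

/-- the word expression of `(a b c d e f h)^9` -/
def w7E : WE Fi24.Gen :=
  WE.pow (WE.mul (WE.mul (WE.mul (WE.mul (WE.mul (WE.mul (WE.of Fi24.Gen.a) (WE.of Fi24.Gen.b))
    (WE.of Fi24.Gen.c)) (WE.of Fi24.Gen.d)) (WE.of Fi24.Gen.e)) (WE.of Fi24.Gen.f))
    (WE.of Fi24.Gen.h)) 9

theorem wval_w7E : wval (pval rels24) w7E.evalW = g24 Fi24.Gen.l := by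
  rw [← WE.lift_evalF (pval rels24) hinv24, lift_pval, l_eq24]
  show PresentedGroup.mk rels24
    ((Fi24.a * Fi24.b * Fi24.c * Fi24.d * Fi24.e * Fi24.f * Fi24.h) ^ 9) = _
  rw [map_pow, map_mul, map_mul, map_mul, map_mul, map_mul, map_mul]
  rfl

theorem extra1_24 : wval (pval rels24)
    ((WE.pow (WE.mul (WE.of Fi24.Gen.k) w7E) 3).evalW) = 1 := by
  rw [← WE.lift_evalF (pval rels24) hinv24]
  simp only [WE.evalF, map_pow, map_mul]
  rw [WE.lift_evalF (pval rels24) hinv24 w7E, wval_w7E]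
  have h := cox24 Fi24.Gen.k Fi24.Gen.l
  have h1 : coxLabel Fi24.edges Fi24.Gen.k Fi24.Gen.l = 3 := by decide
  rw [h1] at h
  simpa using h

theorem extra2_24 : wval (pval rels24)
    ((WE.mul (WE.mul (WE.mul w7E (WE.of Fi24.Gen.i)) (WE.inv w7E)) (WE.of Fi24.Gen.i)).evalW) = 1 := by
  rw [← WE.lift_evalF (pval rels24) hinv24]
  simp only [WE.evalF, map_mul, map_inv]
  rw [WE.lift_evalF (pval rels24) hinv24 w7E, wval_w7E]
  have h := cox24 Fi24.Gen.l Fi24.Gen.i
  have h1 : coxLabel Fi24.edges Fi24.Gen.l Fi24.Gen.i = 2 := by decide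
  rw [h1, pow_two] at h
  rw [inv24]
  simpa [mul_assoc] using h

end Cfsg.Agent.Lib.Helper28.Fi24Ord
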