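/-
The group `⟨k, a, b, c, d, e, f, h, i⟩` on the Y₄₂₂ diagram with the relators `(k w)^3` and
`w i w⁻¹ i`, `w = (a b c d e f h)^9`, has order `9904359628800` (it is `O₈⁺(3):2`), acts faithfully on
the 28431 cosets of `⟨k, a, b, c, d, e, f, h⟩`, and satisfies the spider relation
`(d c b d e f d h i)^10 = 1`.
-/
import Cfsg.Agent.Lib.Helper28.OrdLemmas
import Cfsg.Agent.Lib.Helper28.Fi24Ord.Chain
import Cfsg.Agent.Lib.Helper28.Fi24Ord.C28431.Main
import Cfsg.Agent.Lib.Helper28.Fi24Ord.C120.Main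
import Cfsg.Agent.Lib.Helper28.Fi23Ord.Order

set_option autoImplicit false

namespace Cfsg.Agent.Lib.Helper28.Fi24Ord

open Cfsg.Agent.Lib.Helper28.TC
open Cfsg.Agent.Lib.Helper28.Ord
open Cfsg.Agent.Lib.Helper28.Fi23Sub
open Cfsg.Agent.Lib.Helper28.Fi24Sub

/-! ### The upper bound -/

theorem card_R8 : Finite (PresentedGroup C120.rels) ∧
    Nat.card (PresentedGroup C120.rels) ≤ 120 * (56 * (27 * (16 * (120)))) := by
  obtain ⟨hfin, hcard⟩ := Fi23Ord.card_Q7
  obtain ⟨e, _, _⟩ := C120.cosetEquiv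
  have hidx : (subH C120.rels C120.subS).index = 120 := (Nat.card_congr e).trans (Nat.card_fin _)
  obtain ⟨ψ, hψ⟩ := exists_hom_of_words inclE7 C120.rels Fi23Ord.C56.rels C120.hinv
    (coxE Q7.edges ++ Fi23Ord.C56.extraE) (fun r hr => (Fi23Ord.C56.rels_iff r).1 hr)
    (coxE R8.edges ++ C120.extraE) (fun e he => (C120.rels_iff _).2 ⟨e, he, rfl⟩)
    (by decide +kernel)
  have hle : subH C120.rels C120.subS ≤ ψ.range := by
    apply subH_le_range inclE7 C120.rels Fi23Ord.C56.rels C120.subS ψ hψ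
    rintro s (rfl | rfl | rfl | rfl | rfl | rfl | rfl)
    · exact ⟨Q7.g, rfl⟩
    · exact ⟨Q7.f, rfl⟩
    · exact ⟨Q7.e, rfl⟩
    · exact ⟨Q7.d, rfl⟩
    · exact ⟨Q7.c, rfl⟩
    · exact ⟨Q7.b, rfl⟩
    · exact ⟨Q7.h, rfl⟩
  obtain ⟨hf, hc⟩ := card_le_of_range ψ _ hle
  exact card_le_of_index _ 120 _ (by decide) hidx hf (le_trans hc hcard)

theorem card_R9_le : Finite (PresentedGroup C28431.rels) ∧
    Nat.card (PresentedGroup C28431.rels) ≤ 28431 * (120 * (56 * (27 * (16 * (120))))) := by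
  obtain ⟨hfin, hcard⟩ := card_R8
  obtain ⟨e, _, _⟩ := C28431.cosetEquiv
  have hidx : (subH C28431.rels C28431.subS).index = 28431 :=
    (Nat.card_congr e).trans (Nat.card_fin _)
  obtain ⟨ψ, hψ⟩ := exists_hom_of_words R8.incl C28431.rels C120.rels C28431.hinv
    (coxE R8.edges ++ C120.extraE) (fun r hr => (C120.rels_iff r).1 hr)
    (coxE R9.edges ++ C28431.extraE) (fun e he => (C28431.rels_iff _).2 ⟨e, he, rfl⟩)
    (by decide +kernel)
  have hle : subH C28431.rels C28431.subS ≤ ψ.range := by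
    apply subH_le_range R8.incl C28431.rels C120.rels C28431.subS ψ hψ
    rintro s (rfl | rfl | rfl | rfl | rfl | rfl | rfl | rfl)
    · exact ⟨R8.k, rfl⟩
    · exact ⟨R8.a, rfl⟩
    · exact ⟨R8.b, rfl⟩
    · exact ⟨R8.c, rfl⟩
    · exact ⟨R8.d, rfl⟩
    · exact ⟨R8.e, rfl⟩
    · exact ⟨R8.f, rfl⟩
    · exact ⟨R8.h, rfl⟩
  obtain ⟨hf, hc⟩ := card_le_of_range ψ _ hle
  exact card_le_of_index _ 28431 _ (by decide) hidx hf (le_trans hc hcard)

/-! ### The lower bound -/

/-- the permutation representation on 28431 points -/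
noncomputable def phi9 : PresentedGroup C28431.rels →* Equiv.Perm (Fin C28431.nn) :=
  PresentedGroup.toGroup C28431.hrel

open C28431 in
theorem card_range9_ge : 28431 * 22400 * 7776 * 2 ≤ Nat.card phi9.range := by
  have hfix2 := fixOK_spec tf _ _ ch2_fix
  have hfix3 := fixOK_spec tf _ _ ch3_fix
  have hfix4 := fixOK_spec tf _ _ ch4_fix
  have hb := chain_bound (A := Equiv.Perm (Fin nn)) (X := Fin nn)
    [(Subgroup.closure (wordPerms T chW1), ⟨chO1.root, ch1_rootlt⟩),
     (Subgroup.closure (wordPerms T chW2), ⟨chO2.root, ch2_rootlt⟩),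
     (Subgroup.closure (wordPerms T chW3), ⟨chO3.root, ch3_rootlt⟩),
     (Subgroup.closure (wordPerms T chW4), ⟨chO4.root, ch4_rootlt⟩)] phi9.range
    (by
      intro p hp
      simp only [List.mem_cons, List.not_mem_nil, or_false] at hp
      rcases hp with rfl | rfl | rfl | rfl <;>
        exact closure_wordPerms_le_range T hrel _)
    (by
      simp only [List.pairwise_cons, List.mem_cons, List.not_mem_nil, or_false, forall_eq_or_imp,
        forall_eq, IsEmpty.forall_iff, implies_true, List.Pairwise.nil, and_true]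
      refine ⟨⟨?_, ?_, ?_⟩, ⟨?_, ?_⟩, ?_⟩
      · exact closure_wordPerms_le_stabilizer T _ _ (hfix2 0 (by simp))
      · exact closure_wordPerms_le_stabilizer T _ _ (hfix3 0 (by simp))
      · exact closure_wordPerms_le_stabilizer T _ _ (hfix4 0 (by simp))
      · exact closure_wordPerms_le_stabilizer T _ _ (hfix3 147 (by simp))
      · exact closure_wordPerms_le_stabilizer T _ _ (hfix4 147 (by simp))
      · exact closure_wordPerms_le_stabilizer T _ _ (hfix4 1004 (by simp)))
  have h1 := orbit_ncard_closure T chW1 chO1 ch1_rootlt ch1_root chP1_all 15 28431 ch_nn_le_pow ch1_count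
  have h2 := orbit_ncard_closure T chW2 chO2 ch2_rootlt ch2_root chP2_all 15 22400 ch_nn_le_pow ch2_count
  have h3 := orbit_ncard_closure T chW3 chO3 ch3_rootlt ch3_root chP3_all 15 7776 ch_nn_le_pow ch3_count
  have h4 := orbit_ncard_closure T chW4 chO4 ch4_rootlt ch4_root chP4_all 15 2 ch_nn_le_pow ch4_count
  simp only [List.map_cons, List.map_nil, List.prod_cons, List.prod_nil, h1, h2, h3, h4] at hb
  exact le_trans (by norm_num) hb

/-! ### The order -/

theorem finite_R9 : Finite (PresentedGroup C28431.rels) := card_R9_le.1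

theorem card_R9 : Nat.card (PresentedGroup C28431.rels) = 9904359628800 := by
  have := finite_R9
  apply le_antisymm
  · exact le_trans card_R9_le.2 (by norm_num)
  · have h1 : Nat.card phi9.range ≤ Nat.card (PresentedGroup C28431.rels) :=
      Nat.card_le_card_of_surjective _ phi9.rangeRestrict_surjective
    exact le_trans (le_trans (by norm_num) card_range9_ge) h1

theorem phi9_injective : Function.Injective phi9 := by
  have := finite_R9
  rw [← MonoidHom.ker_eq_bot_iff]
  have h1 : Nat.card phi9.ker * Nat.card phi9.range = Nat.card (PresentedGroup C28431.rels) := by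
    rw [← Subgroup.index_ker, Subgroup.card_mul_index]
  have h2 : Nat.card phi9.range ≤ Nat.card (PresentedGroup C28431.rels) :=
    Nat.card_le_card_of_surjective _ phi9.rangeRestrict_surjective
  have h3 : Nat.card phi9.range = 9904359628800 := by
    apply le_antisymm
    · rw [← card_R9]; exact h2
    · exact le_trans (by norm_num) card_range9_ge
  rw [h3, card_R9] at h1
  have h4 : Nat.card phi9.ker = 1 :=
    Nat.eq_of_mul_eq_mul_right (by norm_num : 0 < 9904359628800) (by rw [h1, one_mul])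
  exact Subgroup.card_eq_one.1 h4

/-! ### The spider relation -/

theorem wval9_eq_one_of_fix (w : List R9.Gen)
    (h : ∀ i, i < C28431.nn → act C28431.tf w i = i) :
    wval (pval C28431.rels) w = 1 := by
  apply phi9_injective
  rw [map_one]
  show PresentedGroup.toGroup C28431.hrel (wval (pval C28431.rels) w) = 1
  rw [toGroup_wval C28431.T C28431.hrel]
  exact C28431.T.wordPerm_eq_one w h

theorem spRel_one (w : List R9.Gen) (hw : w ∈ C28431.spRel) : wval (pval C28431.rels) w = 1 :=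
  wval9_eq_one_of_fix w fun i hi =>
    relRowOK_spec C28431.tf C28431.spRel i (C28431.spRelP_all i hi) w hw

/-- the spider relation in the group on the Y₄₂₂ diagram -/
theorem spider9 : PresentedGroup.mk C28431.rels
    ((R9.d * R9.c * R9.b * R9.d * R9.e * R9.f * R9.d * R9.h * R9.i) ^ 10) = 1 := by
  have h := spRel_one _ (List.mem_singleton.2 rfl)
  have h2 := WE.lift_evalF (pval C28431.rels) C28431.hinv
    (WE.pow (WE.mul (WE.mul (WE.mul (WE.mul (WE.mul (WE.mul (WE.mul (WE.mul (WE.of R9.Gen.d)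
      (WE.of R9.Gen.c)) (WE.of R9.Gen.b)) (WE.of R9.Gen.d)) (WE.of R9.Gen.e)) (WE.of R9.Gen.f))
      (WE.of R9.Gen.d)) (WE.of R9.Gen.h)) (WE.of R9.Gen.i)) 10)
  rw [lift_pval] at h2
  rw [show ((R9.d * R9.c * R9.b * R9.d * R9.e * R9.f * R9.d * R9.h * R9.i) ^ 10 : FreeGroup R9.Gen) =
    WE.evalF (WE.pow (WE.mul (WE.mul (WE.mul (WE.mul (WE.mul (WE.mul (WE.mul (WE.mul (WE.of R9.Gen.d)
      (WE.of R9.Gen.c)) (WE.of R9.Gen.b)) (WE.of R9.Gen.d)) (WE.of R9.Gen.e)) (WE.of R9.Gen.f))
      (WE.of R9.Gen.d)) (WE.of R9.Gen.h)) (WE.of R9.Gen.i)) 10) from rfl, h2]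
  exact h

end Cfsg.Agent.Lib.Helper28.Fi24Ord
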