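/-
The spider relation `(d c b d e f d h i)^10 = 1` holds in the presented Fischer group Fi₂₄
(whose presentation does not list it).
-/
import Cfsg.Agent.Lib.Helper28.Fi24Ord.Spider
import Cfsg.Agent.Lib.Helper28.Fi24Ord.Fi24Basic

set_option autoImplicit false

namespace Cfsg.Agent.Lib.Helper28.Fi24Ord

open Cfsg.Agent.Lib.Helper28.TC
open Cfsg.Agent.Lib.Helper28.Ord
open Cfsg.Agent.Lib.Helper28.Fi24Sub
open Cfsg.Spor

theorem cox9_map : ∀ e' ∈ coxE R9.edges,
    e'.evalW.map R9.incl ∈ (coxE Fi24.edges).map WE.evalW := by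
  decide +kernel

/-- the homomorphism from the group on the Y₄₂₂ diagram to Fi₂₄ -/
theorem exists_hom9 : ∃ ψ : PresentedGroup C28431.rels →* PresentedGroup rels24,
    ∀ w : FreeGroup R9.Gen, ψ (PresentedGroup.mk C28431.rels w) =
      PresentedGroup.mk rels24 (FreeGroup.map R9.incl w) := by
  apply exists_hom_of_words2 R9.incl rels24 C28431.rels hinv24
    (coxE R9.edges ++ C28431.extraE) (fun r hr => (C28431.rels_iff r).1 hr)
    (coxE Fi24.edges) (fun e he => Or.inl ((mem_coxRelators_iff _ _).2 ⟨e, he, rfl⟩))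
  intro e' he'
  rcases List.mem_append.1 he' with h | h
  · left
    exact cox9_map e' h
  · right
    simp only [C28431.extraE, List.mem_cons, List.not_mem_nil, or_false] at h
    rcases h with rfl | rfl
    · exact extra1_24
    · exact extra2_24

/-- the spider relation in Fi₂₄ -/
theorem spider24 : PresentedGroup.mk rels24
    ((Fi24.d * Fi24.c * Fi24.b * Fi24.d * Fi24.e * Fi24.f * Fi24.d * Fi24.h * Fi24.i) ^ 10) = 1 := by
  obtain ⟨ψ, hψ⟩ := exists_hom9
  have h := hψ ((R9.d * R9.c * R9.b * R9.d * R9.e * R9.f * R9.d * R9.h * R9.i) ^ 10)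
  rw [spider9, map_one] at h
  rw [h]
  simp only [map_pow, map_mul, FreeGroup.map.of, R9.incl]

end Cfsg.Agent.Lib.Helper28.Fi24Ord
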