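/-
In the presented Fischer group Fi₂₄ the subgroup `H` generated by `a, b, c, d, e, f, g, j, h, i`
(which contains `l`) is a central extension of the presented Fi₂₃ by `⟨l⟩`.
-/
import Cfsg.Agent.Lib.Helper28.Fi24Ord.SpiderFi24
import Cfsg.Agent.Lib.Helper28.Fi23Ord.Simple
import Cfsg.Agent.Lib.Helper28.CentralQuot

set_option autoImplicit false

namespace Cfsg.Agent.Lib.Helper28.Fi24Ord

open Cfsg.Agent.Lib.Helper28.TC
open Cfsg.Agent.Lib.Helper28.Ord
open Cfsg.Agent.Lib.Helper28.CQ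
open Cfsg.Spor

/-- the presented Fi₂₄ -/
abbrev G24 : Type := PresentedGroup rels24

/-- the inclusion of the generators of Fi₂₃ into those of Fi₂₄ -/
def iota23 : Fi23.Gen → Fi24.Gen
  | .a => .a
  | .b => .b
  | .c => .c
  | .d => .d
  | .e => .e
  | .f => .f
  | .g => .g
  | .j => .j
  | .h => .h
  | .i => .i

/-- the images of the generators of Fi₂₃ -/
noncomputable abbrev g23 (x : Fi23.Gen) : G24 := g24 (iota23 x)

/-- the subgroup generated by `a, …, j` -/
noncomputable def H24 : Subgroup G24 := Subgroup.closure (Set.range g23)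

theorem H24_eq : H24 = Subgroup.closure (Set.range g23) := rfl

theorem g23_mem (x : Fi23.Gen) : g23 x ∈ H24 := Subgroup.subset_closure ⟨x, rfl⟩

theorem g23_sq (x : Fi23.Gen) : g23 x * g23 x = 1 := hinv24 (iota23 x)

theorem l_mem : g24 Fi24.Gen.l ∈ H24 := by
  rw [l_eq24]
  apply pow_mem
  exact mul_mem (mul_mem (mul_mem (mul_mem (mul_mem (mul_mem (g23_mem .a) (g23_mem .b))
    (g23_mem .c)) (g23_mem .d)) (g23_mem .e)) (g23_mem .f)) (g23_mem .h)

theorem comm_of_label_two (x y : Fi24.Gen) (h : coxLabel Fi24.edges x y = 2) :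
    g24 x * g24 y = g24 y * g24 x := by
  have h1 := cox24 x y
  rw [h, pow_two] at h1
  have h2 : g24 x * g24 y = (g24 x * g24 y)⁻¹ := eq_inv_of_mul_eq_one_left h1
  rw [h2, mul_inv_rev, inv24, inv24]

theorem l_comm (x : Fi23.Gen) : g23 x * g24 Fi24.Gen.l = g24 Fi24.Gen.l * g23 x := by
  apply comm_of_label_two
  cases x <;> decide

theorem l_central : ∀ k ∈ H24, k * g24 Fi24.Gen.l = g24 Fi24.Gen.l * k := by
  intro k hk
  have hle : H24 ≤ Subgroup.centralizer {g24 Fi24.Gen.l} := by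
    rw [H24, Subgroup.closure_le]
    rintro _ ⟨x, rfl⟩
    rw [SetLike.mem_coe, Subgroup.mem_centralizer_iff]
    intro y hy
    rw [Set.mem_singleton_iff.1 hy]
    exact (l_comm x).symm
  have := Subgroup.mem_centralizer_iff.1 (hle hk) _ (Set.mem_singleton _)
  exact this.symm

/-- `l` as an element of `H` -/
noncomputable def lK : H24 := ⟨g24 Fi24.Gen.l, l_mem⟩

theorem lK_val : (lK : G24) = g24 Fi24.Gen.l := rfl

/-- the subgroup generated by `l` -/
noncomputable def ZL : Subgroup H24 := Subgroup.zpowers lK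

theorem ZL_le_center : ZL ≤ Subgroup.center H24 := by
  rw [ZL, Subgroup.zpowers_le, Subgroup.mem_center_iff]
  rintro ⟨k, hk⟩
  exact Subtype.ext (l_central k hk)

instance : ZL.Normal := ⟨fun z hz g => by
  have h := Subgroup.mem_center_iff.1 (ZL_le_center hz) g
  rw [h, mul_inv_cancel_right]
  exact hz⟩

theorem lK_mem : lK ∈ ZL := Subgroup.mem_zpowers lK

theorem lK_sq : lK * lK = 1 := Subtype.ext (hinv24 Fi24.Gen.l)

theorem mem_ZL (y : H24) (hy : y ∈ ZL) : y = 1 ∨ y = lK := by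
  obtain ⟨k, rfl⟩ := Subgroup.mem_zpowers_iff.1 hy
  rcases Int.even_or_odd k with ⟨m, rfl⟩ | ⟨m, rfl⟩
  · left
    rw [zpow_add, ← (Commute.refl lK).mul_zpow, lK_sq, one_zpow]
  · right
    rw [zpow_add, zpow_one, two_mul, zpow_add, ← (Commute.refl lK).mul_zpow, lK_sq, one_zpow, one_mul]

/-! ### The homomorphism from Fi₂₃ -/

/-- the word expression of the spider word -/
def sp24E : WE Fi24.Gen :=
  WE.pow (WE.mul (WE.mul (WE.mul (WE.mul (WE.mul (WE.mul (WE.mul (WE.mul (WE.of Fi24.Gen.d)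
    (WE.of Fi24.Gen.c)) (WE.of Fi24.Gen.b)) (WE.of Fi24.Gen.d)) (WE.of Fi24.Gen.e))
    (WE.of Fi24.Gen.f)) (WE.of Fi24.Gen.d)) (WE.of Fi24.Gen.h)) (WE.of Fi24.Gen.i)) 10

theorem wval_sp24E : wval (pval rels24) sp24E.evalW = 1 := by
  rw [← WE.lift_evalF (pval rels24) hinv24, lift_pval]
  exact spider24

theorem rel23_map1 : ∀ e ∈ coxE Fi23.edges,
    e.evalW.map iota23 ∈ (coxE Fi24.edges).map WE.evalW := by
  decide +kernel

theorem rel23_map2 : ∀ e ∈ Fi23x31671.extraE,
    e.evalW.map iota23 = sp24E.evalW ∨ e.evalW.map iota23 = w7E.evalW := by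
  decide +kernel

theorem rel23_val (r : FreeGroup Fi23.Gen) (hr : r ∈ Fi23x31671.rels) :
    FreeGroup.lift g23 r = 1 ∨ FreeGroup.lift g23 r = g24 Fi24.Gen.l := by
  obtain ⟨e, he, rfl⟩ := (Fi23x31671.rels_iff r).1 hr
  rw [WE.lift_evalF g23 g23_sq, wval_comp (pval rels24) iota23]
  rcases List.mem_append.1 he with h | h
  · left
    obtain ⟨e2, he2, hw⟩ := List.mem_map.1 (rel23_map1 e h)
    rw [← hw]
    exact wval_pval_eq_one rels24 hinv24 e2
      (Or.inl ((mem_coxRelators_iff _ _).2 ⟨e2, he2, rfl⟩))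
  · rcases rel23_map2 e h with h2 | h2
    · left; rw [h2]; exact wval_sp24E
    · right; rw [h2]; exact wval_w7E

theorem exists_hom23 : ∃ ψ : PresentedGroup Fi23x31671.rels →* (H24 ⧸ ZL),
    Function.Surjective ψ ∧ ∀ (x : Fi23.Gen) (hx : g23 x ∈ H24),
      ψ (PresentedGroup.of x) = QuotientGroup.mk ⟨g23 x, hx⟩ := by
  apply exists_surj_hom_quotient Fi23x31671.rels g23 H24 H24_eq ZL
  intro r hr
  rcases rel23_val r hr with h | h
  · rw [h]; exact ⟨H24.one_mem, ZL.one_mem⟩
  · rw [h]; exact ⟨l_mem, lK_mem⟩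

theorem finite_quot24 : Finite (H24 ⧸ ZL) := by
  obtain ⟨ψ, hsurj, _⟩ := exists_hom23
  have := Fi23Ord.finite_Fi23
  exact Finite.of_surjective ψ hsurj

theorem finite_ZL : Finite ZL := by
  have : (ZL : Set H24) ⊆ {1, lK} := by
    intro y hy
    rcases mem_ZL y hy with h | h
    · exact Or.inl h
    · exact Or.inr h
  exact Set.Finite.subset (Set.toFinite _) this

theorem finite_H24 : Finite H24 := by
  have := finite_quot24
  have := finite_ZL
  exact Finite.of_equiv _ (Subgroup.groupEquivQuotientProdSubgroup (s := ZL)).symm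

/-! ### The structure of `H`, given that `a ∉ ⟨l⟩` and `l ≠ 1` -/

section

variable (ha1 : g24 Fi24.Gen.a ≠ 1) (hal : g24 Fi24.Gen.a ≠ g24 Fi24.Gen.l)
  (hl1 : g24 Fi24.Gen.l ≠ 1)

include ha1 hal in
theorem exists_iso23 : Nonempty (PresentedGroup Fi23x31671.rels ≃* (H24 ⧸ ZL)) := by
  obtain ⟨ψ, hsurj, hψ⟩ := exists_hom23
  have := Fi23Ord.isSimpleGroup_GF
  have hinj : Function.Injective ψ := by
    rw [← MonoidHom.ker_eq_bot_iff]
    rcases ψ.normal_ker.eq_bot_or_eq_top with h | h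
    · exact h
    · exfalso
      have h1 : ψ (PresentedGroup.of Fi23.Gen.a) = 1 := by
        rw [← MonoidHom.mem_ker, h]; exact Subgroup.mem_top _
      rw [hψ Fi23.Gen.a (g23_mem _), QuotientGroup.eq_one_iff] at h1
      rcases mem_ZL _ h1 with h2 | h2
      · exact ha1 (congrArg Subtype.val h2)
      · exact hal (congrArg Subtype.val h2)
  exact ⟨MulEquiv.ofBijective ψ ⟨hinj, hsurj⟩⟩

include ha1 hal in
theorem card_quot24 : Nat.card (H24 ⧸ ZL) = 4089470473293004800 := by
  obtain ⟨e⟩ := exists_iso23 ha1 hal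
  rw [← Nat.card_congr e.toEquiv, Fi23Ord.card_Fi23]

include hl1 in
theorem card_ZL : Nat.card ZL = 2 := by
  rw [ZL, Nat.card_zpowers]
  apply orderOf_eq_prime
  · rw [pow_two]; exact lK_sq
  · intro h
    exact hl1 (congrArg Subtype.val h)

include ha1 hal hl1 in
theorem card_H24 : Nat.card H24 = 2 * 4089470473293004800 := by
  rw [Subgroup.card_eq_card_quotient_mul_card_subgroup ZL, card_quot24 ha1 hal, card_ZL hl1,
    Nat.mul_comm]

include ha1 hal in
theorem center_quot24 : Subgroup.center (H24 ⧸ ZL) = ⊥ := by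
  obtain ⟨e⟩ := exists_iso23 ha1 hal
  have := Fi23Ord.finite_Fi23
  have := Fi23Ord.isSimpleGroup_GF
  have hc : Subgroup.center (PresentedGroup Fi23x31671.rels) = ⊥ := by
    apply center_eq_bot_of_simple
    rw [Fi23Ord.card_Fi23]
    norm_num
  rw [Subgroup.eq_bot_iff_forall]
  intro q hq
  have h1 : e.symm q ∈ Subgroup.center (PresentedGroup Fi23x31671.rels) := by
    rw [Subgroup.mem_center_iff]
    intro p
    obtain ⟨q', rfl⟩ := e.symm.surjective p
    rw [← map_mul, ← map_mul, Subgroup.mem_center_iff.1 hq q']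
  rw [hc, Subgroup.mem_bot] at h1
  exact e.symm.injective (h1.trans (map_one e.symm).symm)

include ha1 hal in
theorem center_H24 : Subgroup.center H24 = ZL :=
  center_eq_of_quotient ZL ZL_le_center (center_quot24 ha1 hal)

end

end Cfsg.Agent.Lib.Helper28.Fi24Ord
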