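/-
The presented Fischer group Fi₂₄ has order `2510411418381323442585600`, and its commutator
subgroup (of index 2) is simple.
-/
import Cfsg.Agent.Lib.Helper28.Fi24Ord.HStruct
import Cfsg.Agent.Lib.Helper28.Fi24Ord.Orb306936a
import Cfsg.Agent.Lib.Helper28.Fi24Ord.Orb306936b
import Cfsg.Agent.Lib.Helper28.Fi24x306936.Main
import Cfsg.Agent.Lib.Helper28.IwasawaLemmas
import Cfsg.Agent.Lib.Helper28.IndexTwoSimple
import Cfsg.Agent.S1691

set_option autoImplicit false

namespace Cfsg.Agent.Lib.Helper28.Fi24Ord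

open Cfsg.Agent.Lib.Helper28.TC
open Cfsg.Agent.Lib.Helper28.Ord
open Cfsg.Agent.Lib.Helper28.CQ
open Cfsg.Spor
open Cfsg.Spor.Fi24 (Gen)
open MulAction

/-! ### The coset table -/

/-- the coset table on 306936 points as a table of involutions -/
noncomputable def T1 : PermTable Gen Fi24x306936.nn where
  tf := Fi24x306936.tf
  bound := Fi24x306936.T.bound
  invol := Fi24x306936.T.invl

theorem T1_perm (x : Gen) : T1.perm x = Fi24x306936.T.perm (Fi24x306936.emb x) := by
  ext i
  rfl

theorem hrel1 : ∀ r ∈ rels24, FreeGroup.lift T1.perm r = 1 := by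
  intro r hr
  have h := Fi24x306936.hrel r hr
  have hfun : T1.perm = fun a => Fi24x306936.T.perm (Fi24x306936.emb a) := funext T1_perm
  rw [hfun]
  exact h

/-- the permutation representation on 306936 points -/
noncomputable def phi24 : G24 →* Equiv.Perm (Fin Fi24x306936.nn) := PresentedGroup.toGroup hrel1

theorem phi24_eq : phi24 = PresentedGroup.toGroup Fi24x306936.hrel := by
  apply PresentedGroup.ext
  intro x
  rw [phi24, PresentedGroup.toGroup.of, PresentedGroup.toGroup.of]
  exact T1_perm x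

theorem phi24_gen (x : Gen) (i : Fin Fi24x306936.nn) :
    (phi24 (g24 x) i).val = Fi24x306936.tf x i.val := by
  rw [phi24]
  show (PresentedGroup.toGroup hrel1 (PresentedGroup.of x) i).val = _
  rw [PresentedGroup.toGroup.of]
  rfl

theorem tf_a1 : Fi24x306936.tf Gen.a 1 = 3 := by decide +kernel
theorem tf_l1 : Fi24x306936.tf Gen.l 1 = 2 := by decide +kernel
theorem tf_k0 : Fi24x306936.tf Gen.k 0 = 1 := by decide +kernel
theorem tf_l0 : Fi24x306936.tf Gen.l 0 = 0 := by decide +kernel

theorem one_lt_nn : 1 < Fi24x306936.nn := by decide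

theorem ha1 : g24 Gen.a ≠ 1 := by
  intro h
  have h1 := phi24_gen Gen.a ⟨1, one_lt_nn⟩
  rw [h, map_one, tf_a1] at h1
  exact absurd h1 (by decide)

theorem hal : g24 Gen.a ≠ g24 Gen.l := by
  intro h
  have h1 := phi24_gen Gen.a ⟨1, one_lt_nn⟩
  have h2 := phi24_gen Gen.l ⟨1, one_lt_nn⟩
  rw [h, h2, tf_a1, tf_l1] at h1
  exact absurd h1 (by decide)

theorem hl1 : g24 Gen.l ≠ 1 := by
  intro h
  have h1 := phi24_gen Gen.l ⟨1, one_lt_nn⟩
  rw [h, map_one, tf_l1] at h1
  exact absurd h1 (by decide)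

theorem hkl : g24 Gen.k ≠ g24 Gen.l := by
  intro h
  have h1 := phi24_gen Gen.k ⟨0, Fi24x306936.nn_pos⟩
  have h2 := phi24_gen Gen.l ⟨0, Fi24x306936.nn_pos⟩
  rw [h, h2, tf_k0, tf_l0] at h1
  exact absurd h1 (by decide)

/-! ### The subgroup of index 306936 -/

/-- the subgroup generated by all generators but `k` -/
noncomputable abbrev HS : Subgroup G24 := subH rels24 Fi24x306936.subS

theorem HS_eq : HS = H24 := by
  show (Subgroup.closure Fi24x306936.subS).map (PresentedGroup.mk rels24) = H24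
  rw [MonoidHom.map_closure]
  apply le_antisymm
  · rw [Subgroup.closure_le]
    rintro _ ⟨s, hs, rfl⟩
    rcases hs with rfl | rfl | rfl | rfl | rfl | rfl | rfl | rfl | rfl | rfl | rfl
    · exact g23_mem .a
    · exact g23_mem .b
    · exact g23_mem .c
    · exact g23_mem .d
    · exact g23_mem .e
    · exact g23_mem .f
    · exact g23_mem .g
    · exact g23_mem .h
    · exact g23_mem .i
    · exact g23_mem .j
    · exact l_mem
  · rw [H24, Subgroup.closure_le]
    rintro _ ⟨x, rfl⟩
    apply Subgroup.subset_closure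
    cases x
    · exact ⟨Fi24.a, by simp [Fi24x306936.subS], rfl⟩
    · exact ⟨Fi24.b, by simp [Fi24x306936.subS], rfl⟩
    · exact ⟨Fi24.c, by simp [Fi24x306936.subS], rfl⟩
    · exact ⟨Fi24.d, by simp [Fi24x306936.subS], rfl⟩
    · exact ⟨Fi24.e, by simp [Fi24x306936.subS], rfl⟩
    · exact ⟨Fi24.f, by simp [Fi24x306936.subS], rfl⟩
    · exact ⟨Fi24.g, by simp [Fi24x306936.subS], rfl⟩
    · exact ⟨Fi24.j, by simp [Fi24x306936.subS], rfl⟩
    · exact ⟨Fi24.h, by simp [Fi24x306936.subS], rfl⟩
    · exact ⟨Fi24.i, by simp [Fi24x306936.subS], rfl⟩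

theorem index_HS : HS.index = 306936 := by
  obtain ⟨e, _, _⟩ := Fi24x306936.cosetEquiv
  exact (Nat.card_congr e).trans (Nat.card_fin _)

theorem card_HS : Nat.card HS = 2 * 4089470473293004800 := by
  rw [HS_eq]
  exact card_H24 ha1 hal hl1

theorem finite_G24 : Finite G24 := by
  have hf : Finite HS := by rw [HS_eq]; exact finite_H24
  exact (card_le_of_index HS 306936 _ (by decide) index_HS hf (le_of_eq card_HS)).1

instance : Finite G24 := finite_G24

theorem card_G24 : Nat.card G24 = 2510411418381323442585600 := by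
  rw [← Subgroup.card_mul_index HS, index_HS, card_HS]

/-! ### Generation by the conjugates of `l` -/

theorem eq_one_of_sq_cube' {Q : Type*} [Group Q] (x : Q) (h2 : x * x = 1) (h3 : x ^ 3 = 1) :
    x = 1 := by
  have : x ^ 3 = x * x * x := by rw [pow_succ, pow_two]
  rw [this, h2, one_mul] at h3
  exact h3

/-- A homomorphism that kills `l` kills every generator. -/
theorem hom_trivial_of_l {Q : Type*} [Group Q] (π : G24 →* Q) (hl : π (g24 Gen.l) = 1) (x : Gen) :
    π (g24 x) = 1 := by
  have hsq : ∀ y, π (g24 y) * π (g24 y) = 1 := fun y => by rw [← map_mul, hinv24, map_one]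
  have step : ∀ x y : Gen, coxLabel Fi24.edges x y = 3 → π (g24 x) = 1 → π (g24 y) = 1 := by
    intro x y hxy hx
    have h := congrArg π (cox24 x y)
    rw [hxy, map_pow, map_mul, hx, one_mul, map_one] at h
    exact eq_one_of_sq_cube' _ (hsq _) h
  have hk := step Gen.l Gen.k (by decide) hl
  have ha := step Gen.k Gen.a (by decide) hk
  have hb := step Gen.a Gen.b (by decide) ha
  have hc := step Gen.b Gen.c (by decide) hb
  have hd := step Gen.c Gen.d (by decide) hc
  have he := step Gen.d Gen.e (by decide) hd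
  have hh := step Gen.d Gen.h (by decide) hd
  have hf := step Gen.e Gen.f (by decide) he
  have hg := step Gen.f Gen.g (by decide) hf
  have hj := step Gen.g Gen.j (by decide) hg
  have hi := step Gen.h Gen.i (by decide) hh
  cases x <;> assumption

theorem eq_top_of_gens24 (N : Subgroup G24) (h : ∀ x, g24 x ∈ N) : N = ⊤ := by
  rw [eq_top_iff]
  intro g _
  exact PresentedGroup.generated_by rels24 N h g

theorem normalClosure_l : Subgroup.normalClosure {g24 Gen.l} = ⊤ := by
  apply eq_top_of_gens24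
  intro x
  have h := hom_trivial_of_l (QuotientGroup.mk' (Subgroup.normalClosure {g24 Gen.l}))
    ((QuotientGroup.eq_one_iff _).2 (Subgroup.subset_normalClosure (Set.mem_singleton _))) x
  exact (QuotientGroup.eq_one_iff _).1 h

/-! ### Faithfulness -/

theorem l_not_central : g24 Gen.l ∉ Subgroup.center G24 := by
  intro h
  have hc : g24 Gen.k * g24 Gen.l = g24 Gen.l * g24 Gen.k := Subgroup.mem_center_iff.1 h _
  have h3 := cox24 Gen.k Gen.l
  have hlab : coxLabel Fi24.edges Gen.k Gen.l = 3 := by decide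
  rw [hlab] at h3
  have hk2 := hinv24 Gen.k
  have hl2 := hinv24 Gen.l
  have h4 : (g24 Gen.k * g24 Gen.l) ^ 3 = g24 Gen.k * g24 Gen.l := by
    rw [pow_succ, pow_two]
    calc g24 Gen.k * g24 Gen.l * (g24 Gen.k * g24 Gen.l) * (g24 Gen.k * g24 Gen.l)
        = g24 Gen.k * (g24 Gen.l * g24 Gen.k) * g24 Gen.l * (g24 Gen.k * g24 Gen.l) := by group
      _ = g24 Gen.k * (g24 Gen.k * g24 Gen.l) * g24 Gen.l * (g24 Gen.k * g24 Gen.l) := by rw [hc]
      _ = (g24 Gen.k * g24 Gen.k) * (g24 Gen.l * g24 Gen.l) * (g24 Gen.k * g24 Gen.l) := by group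
      _ = g24 Gen.k * g24 Gen.l := by rw [hk2, hl2, one_mul, one_mul]
  rw [h4] at h3
  have h5 : g24 Gen.k = (g24 Gen.l)⁻¹ := eq_inv_of_mul_eq_one_left h3
  rw [inv24] at h5
  exact hkl h5

theorem HS_le_centralizer : HS ≤ Subgroup.centralizer {g24 Gen.l} := by
  rw [HS_eq]
  intro k hk
  rw [Subgroup.mem_centralizer_iff]
  intro y hy
  rw [Set.mem_singleton_iff.1 hy]
  exact (l_central k hk).symm

theorem normalCore_HS : HS.normalCore = ⊥ := by
  rw [Subgroup.eq_bot_iff_forall]
  intro n hn
  -- `n` commutes with every conjugate of `l`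
  have hconj : ∀ g : G24, n * (g * g24 Gen.l * g⁻¹) = (g * g24 Gen.l * g⁻¹) * n := by
    intro g
    have h1 : g⁻¹ * n * g⁻¹⁻¹ ∈ HS.normalCore := HS.normalCore_normal.conj_mem n hn g⁻¹
    have h2 := HS_le_centralizer (Subgroup.normalCore_le HS h1)
    have h3 := Subgroup.mem_centralizer_iff.1 h2 _ (Set.mem_singleton _)
    -- h3 : l * (g⁻¹ n g) = (g⁻¹ n g) * l
    rw [inv_inv] at h3
    calc n * (g * g24 Gen.l * g⁻¹) = g * ((g⁻¹ * n * g) * g24 Gen.l) * g⁻¹ := by group
      _ = g * (g24 Gen.l * (g⁻¹ * n * g)) * g⁻¹ := by rw [h3]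
      _ = (g * g24 Gen.l * g⁻¹) * n := by group
  have hcen : n ∈ Subgroup.center G24 := by
    have hle : Subgroup.normalClosure {g24 Gen.l} ≤ Subgroup.centralizer {n} := by
      show Subgroup.closure (Group.conjugatesOfSet {g24 Gen.l}) ≤ _
      rw [Subgroup.closure_le]
      intro x hx
      rw [Group.mem_conjugatesOfSet_iff] at hx
      obtain ⟨z, hz, hconj'⟩ := hx
      rw [Set.mem_singleton_iff] at hz
      obtain ⟨c, rfl⟩ := isConj_iff.1 hconj'
      rw [SetLike.mem_coe, Subgroup.mem_centralizer_iff]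
      intro y hy
      rw [Set.mem_singleton_iff.1 hy, hz]
      exact hconj c
    rw [normalClosure_l] at hle
    rw [Subgroup.mem_center_iff]
    intro g
    have := Subgroup.mem_centralizer_iff.1 (hle (Subgroup.mem_top g)) n (Set.mem_singleton _)
    exact this.symm
  -- so `n` is central in `H`
  have hnH : n ∈ H24 := HS_eq ▸ Subgroup.normalCore_le HS hn
  have hcH : (⟨n, hnH⟩ : H24) ∈ Subgroup.center H24 := by
    rw [Subgroup.mem_center_iff]
    rintro ⟨k, hk⟩
    exact Subtype.ext (Subgroup.mem_center_iff.1 hcen k)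
  rw [center_H24 ha1 hal] at hcH
  rcases mem_ZL _ hcH with h | h
  · exact congrArg Subtype.val h
  · exfalso
    have : n = g24 Gen.l := congrArg Subtype.val h
    rw [this] at hcen
    exact l_not_central hcen

theorem faithful_HS : FaithfulSMul G24 (G24 ⧸ HS) := by
  constructor
  intro g₁ g₂ h
  have hker : (toPermHom G24 (G24 ⧸ HS)).ker = ⊥ := by
    rw [← Subgroup.normalCore_eq_ker, normalCore_HS]
  have hinj := (MonoidHom.ker_eq_bot_iff _).1 hker
  apply hinj
  ext x
  exact h x

/-! ### Primitivity -/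

theorem hS1 : ∀ s ∈ Fi24x306936.subS, ∃ w ∈ Fi24x306936.obW,
    FreeGroup.lift T1.perm s = (w.map T1.perm).prod := by
  rintro s (rfl | rfl | rfl | rfl | rfl | rfl | rfl | rfl | rfl | rfl | rfl)
  · exact ⟨[Gen.a], by decide, by simp⟩
  · exact ⟨[Gen.b], by decide, by simp⟩
  · exact ⟨[Gen.c], by decide, by simp⟩
  · exact ⟨[Gen.d], by decide, by simp⟩
  · exact ⟨[Gen.e], by decide, by simp⟩
  · exact ⟨[Gen.f], by decide, by simp⟩
  · exact ⟨[Gen.g], by decide, by simp⟩
  · exact ⟨[Gen.h], by decide, by simp⟩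
  · exact ⟨[Gen.i], by decide, by simp⟩
  · exact ⟨[Gen.j], by decide, by simp⟩
  · exact ⟨[Gen.l], by decide, by simp⟩

theorem hW1 : ∀ w ∈ Fi24x306936.obW, ∃ s ∈ Fi24x306936.subS,
    FreeGroup.lift T1.perm s = (w.map T1.perm).prod := by
  intro w hw
  simp only [Fi24x306936.obW, List.mem_cons, List.not_mem_nil, or_false] at hw
  rcases hw with rfl | rfl | rfl | rfl | rfl | rfl | rfl | rfl | rfl | rfl | rfl
  · exact ⟨Fi24.l, by simp [Fi24x306936.subS], by simp⟩
  · exact ⟨Fi24.a, by simp [Fi24x306936.subS], by simp⟩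
  · exact ⟨Fi24.b, by simp [Fi24x306936.subS], by simp⟩
  · exact ⟨Fi24.c, by simp [Fi24x306936.subS], by simp⟩
  · exact ⟨Fi24.d, by simp [Fi24x306936.subS], by simp⟩
  · exact ⟨Fi24.e, by simp [Fi24x306936.subS], by simp⟩
  · exact ⟨Fi24.f, by simp [Fi24x306936.subS], by simp⟩
  · exact ⟨Fi24.g, by simp [Fi24x306936.subS], by simp⟩
  · exact ⟨Fi24.j, by simp [Fi24x306936.subS], by simp⟩
  · exact ⟨Fi24.h, by simp [Fi24x306936.subS], by simp⟩
  · exact ⟨Fi24.i, by simp [Fi24x306936.subS], by simp⟩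

theorem prim_HS : IsPreprimitive G24 (G24 ⧸ HS) := by
  obtain ⟨e, _, hequiv0⟩ := Fi24x306936.cosetEquiv
  have hequiv : ∀ (g : G24) (q : G24 ⧸ HS), e (g • q) = (PresentedGroup.toGroup hrel1 g) (e q) := by
    intro g q
    have := hequiv0 g q
    rw [← phi24_eq] at this
    exact this
  let q1 : G24 ⧸ HS := e.symm ⟨1, by decide⟩
  let q2 : G24 ⧸ HS := e.symm ⟨6, by decide⟩
  have h1 : (orbit HS q1).ncard = 275264 :=
    TC.orbit_ncard_of_cert T1 hrel1 e hequiv Fi24x306936.obW hS1 hW1
      Fi24x306936.obO1 (by decide) Fi24x306936.ob1_root Fi24x306936.obP1_all 19 275264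
      Fi24x306936.ob_nn_le_pow Fi24x306936.ob1_count
  have h2 : (orbit HS q2).ncard = 31671 :=
    TC.orbit_ncard_of_cert T1 hrel1 e hequiv Fi24x306936.obW hS1 hW1
      Fi24x306936.obO2 (by decide) Fi24x306936.ob2_root Fi24x306936.obP2_all 19 31671
      Fi24x306936.ob_nn_le_pow Fi24x306936.ob2_count
  have hcard : Nat.card (G24 ⧸ HS) = 306936 := index_HS
  have : IsPretransitive G24 (G24 ⧸ HS) := inferInstance
  refine isPreprimitive_of_suborbits ((1 : G24) : G24 ⧸ HS) HS
    (le_of_eq (stabilizer_quotient HS).symm)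
    [q1, q2] [275264, 31671] ?_ (by decide) (by decide)
    (by rw [hcard]; rfl) ?_
  · show [(orbit HS q1).ncard, (orbit HS q2).ncard] = _
    rw [h1, h2]
  · rw [hcard]
    intro l hl
    exact (by decide : ∀ l ∈ [275264, 31671].sublists,
      (1 + l.sum ∣ 306936 → l.sum = 0 ∨ 1 + l.sum = 306936)) l (List.mem_sublists.2 hl)

/-! ### Normal subgroups -/

theorem HS_eq_closure : HS = Subgroup.closure (PresentedGroup.mk rels24 '' Fi24x306936.subS) := by
  show (Subgroup.closure Fi24x306936.subS).map (PresentedGroup.mk rels24) = _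
  rw [MonoidHom.map_closure]

theorem l_normalized : ∀ s ∈ PresentedGroup.mk rels24 '' Fi24x306936.subS,
    s * g24 Gen.l * s⁻¹ = g24 Gen.l ∨ s * g24 Gen.l * s⁻¹ = (g24 Gen.l)⁻¹ := by
  intro s hs
  left
  have hsH : s ∈ HS := by rw [HS_eq_closure]; exact Subgroup.subset_closure hs
  have := l_central s (HS_eq ▸ hsH)
  rw [this, mul_inv_cancel_right]

/-- the Iwasawa structure of Fi₂₄ on the 306936 cosets -/
noncomputable def iwasawa24 : IwasawaStructure G24 (G24 ⧸ HS) :=
  iwasawaOfNormalized HS (Subgroup.zpowers (g24 Gen.l)) inferInstance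
    (HS_eq_closure ▸ closure_le_normalizer_zpowers (g24 Gen.l) _ l_normalized)
    (by
      rw [eq_top_iff, ← normalClosure_l]
      apply Subgroup.normalClosure_mono
      intro x hx
      rw [Set.mem_singleton_iff] at hx
      rw [hx]
      exact Subgroup.mem_zpowers _)

/-- every non-trivial normal subgroup of Fi₂₄ contains the commutator subgroup -/
theorem commutator_le_of_normal (M : Subgroup G24) (hM : M.Normal) (hne : M ≠ ⊥) :
    commutator G24 ≤ M := by
  have := prim_HS
  have hf := faithful_HS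
  apply iwasawa24.commutator_le M
  intro huniv
  apply hne
  rw [Subgroup.eq_bot_iff_forall]
  intro n hn
  apply hf.eq_of_smul_eq_smul
  intro x
  rw [one_smul]
  have hx := Set.mem_univ x
  rw [← huniv] at hx
  exact hx ⟨n, hn⟩

/-! ### The commutator subgroup -/

theorem index_commutator : (commutator G24).index = 2 := Cfsg.Agent.S1691.result

theorem card_commutator : Nat.card (commutator G24) = 1255205709190661721292800 := by
  have h := Subgroup.card_mul_index (commutator G24)
  rw [index_commutator, card_G24] at h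
  exact Nat.eq_of_mul_eq_mul_right (by norm_num : 0 < 2) (by rw [h])

theorem not_square : ∀ m : ℕ, m * m ≠ Nat.card (commutator G24) := by
  intro m hm
  rw [card_commutator] at hm
  -- 11 divides the order exactly once
  have h11 : 11 ∣ m * m := by rw [hm]; decide
  have h11m : 11 ∣ m := by
    rcases (Nat.Prime.dvd_mul (by norm_num : Nat.Prime 11)).1 h11 with h | h <;> exact h
  have h121 : 121 ∣ m * m := by
    obtain ⟨c, rfl⟩ := h11m
    exact ⟨c * c, by ring⟩
  rw [hm] at h121
  exact absurd h121 (by decide)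

theorem isSimpleGroup_commutator : IsSimpleGroup (commutator G24) := by
  apply isSimpleGroup_of_index_two (commutator G24) index_commutator
    commutator_le_of_normal not_square
  rw [← Finite.one_lt_card_iff_nontrivial, card_commutator]
  norm_num

end Cfsg.Agent.Lib.Helper28.Fi24Ord
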