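import Cfsg.Agent.Lib.Helper28.Fi24x306936.Defs
import Cfsg.Agent.Lib.Helper28.TCOrbit2

set_option autoImplicit false
set_option linter.unusedVariables false
set_option Elab.async false

namespace Cfsg.Agent.Lib.Helper28.Fi24x306936

open Cfsg.Spor.Fi24 (Gen)
open Cfsg.Agent.Lib.Helper28.TC

noncomputable section

/-- the subgroup generator words -/
def obW : List (List Gen) := [
  [Gen.l],
  [Gen.a],
  [Gen.b],
  [Gen.c],
  [Gen.d],
  [Gen.e],
  [Gen.f],
  [Gen.g],
  [Gen.j],
  [Gen.h],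
  [Gen.i]]
theorem ob_nn_le_pow : nn ≤ 2 ^ 19 := by decide

end

end Cfsg.Agent.Lib.Helper28.Fi24x306936
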